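import Mathlib
import Cfsg.Agent.Lib.Mod88.Eig
import Cfsg.Agent.Lib.Mod88.Small
import Cfsg.Agent.Lib.Perm.PrimeDegree

/-! Homomorphisms from the augmentation module of a group of prime degree `p` in characteristic
`p`, and modules of dimension `p + 1`. -/

set_option autoImplicit false

open Polynomial Cfsg
open scoped MatrixGroups

namespace H88.Mod

variable {G : Type*} [Group G] {p : ℕ} [hp : Fact p.Prime] {k : Type*} [Field k] [CharP k p]

theorem sum_zmod_val {A : Type*} [AddCommMonoid A] (f : ℕ → A) :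
    ∑ b : ZMod p, f b.val = ∑ i ∈ Finset.range p, f i := by
  haveI : NeZero p := ⟨hp.out.ne_zero⟩
  refine Finset.sum_bij (fun b _ => b.val) (fun b _ => Finset.mem_range.2 (ZMod.val_lt b))
    (fun a _ b _ h => ZMod.val_injective p h) (fun i hi => ⟨i, Finset.mem_univ _, ?_⟩)
    fun _ _ => rfl
  exact ZMod.val_cast_of_lt (Finset.mem_range.1 hi)

/-- the slope character with values in `k` -/
def slope (k : Type*) [Field k] [CharP k p] {E : Type*} [Group E] (a : E →* (ZMod p)ˣ) : E →* kˣ :=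
  (Units.map (ZMod.castHom (dvd_refl p) k : ZMod p →* k)).comp a

theorem slope_val {E : Type*} [Group E] (a : E →* (ZMod p)ˣ) (g : E) :
    (slope k a g : k) = (((a g : ZMod p).val : ℕ) : k) := by
  rw [← map_natCast (ZMod.castHom (dvd_refl p) k), ZMod.natCast_zmod_val]
  rfl

theorem not_dvd_val (x : (ZMod p)ˣ) : ¬ p ∣ (x : ZMod p).val := by
  rw [← ZMod.natCast_eq_zero_iff, ZMod.natCast_zmod_val]
  exact x.ne_zero

section eps
variable {U : Type*} [AddCommGroup U] [Module k U]

/-- the truncated logarithm of `ρ c` -/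
noncomputable def eps (p : ℕ) [Fact p.Prime] [CharP k p] (ρ : Representation k G U) (c : G) :
    Module.End k U := aeval (ρ c - 1) (EE k p)

theorem sub_one_pow_p (ρ : Representation k G U) {c : G} (hc : c ^ p = 1) : (ρ c - 1) ^ p = 0 := by
  have := H35.sub_one_pow_char (k := k) (p := p) (ρ c) 1
  rw [pow_one] at this
  rw [this, ← map_pow, hc, map_one, sub_self]

theorem rho_mul_eps (ρ : Representation k G U) {c g : G} (hc : c ^ p = 1) {a : ℕ} (ha : ¬ p ∣ a)
    (h : g * c * g⁻¹ = c ^ a) : ρ g * eps p ρ c = (a : k) • (eps p ρ c * ρ g) := by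
  have h1 : ρ c ^ p = 1 := by rw [← map_pow, hc, map_one]
  have h2 := aeval_EE_pow (k := k) h1 ha
  rw [eps, rho_mul_aeval ρ h, aeval_comp]
  simp only [map_sub, map_pow, map_add, map_one, aeval_X, add_sub_cancel]
  rw [h2, smul_mul_assoc]

theorem commute_eps (ρ : Representation k G U) (c : G) : Commute (ρ c) (eps p ρ c) := by
  have h1 : ρ c = aeval (ρ c - 1) (1 + X : k[X]) := by simp
  change _ = _
  conv_lhs => rw [h1]
  conv_rhs => rw [h1]
  rw [eps, ← map_mul, ← map_mul, mul_comm]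

theorem exists_eps_eq (hp2 : 2 < p) (ρ : Representation k G U) {c : G} (hc : c ^ p = 1) :
    ∃ w : Module.End k U, Function.Bijective w ∧ eps p ρ c = (ρ c - 1) * w ∧
      eps p ρ c = w * (ρ c - 1) := by
  obtain ⟨r, hr⟩ := exists_EE k p hp2
  refine ⟨aeval (ρ c - 1) (1 + X * r), ?_, ?_, ?_⟩
  · rw [← Module.End.isUnit_iff, map_add, map_one]
    refine IsNilpotent.isUnit_one_add ⟨p, ?_⟩
    rw [← map_pow, mul_pow, map_mul, map_pow, aeval_X, sub_one_pow_p ρ hc, zero_mul]
  · rw [eps, hr, map_mul, aeval_X]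
  · rw [eps, hr, mul_comm X, map_mul, aeval_X]

theorem rho_mul_norm (ρ : Representation k G U) {c g : G} (hc : c ^ p = 1) {a : (ZMod p)ˣ}
    (h : g * c * g⁻¹ = c ^ (a : ZMod p).val) :
    ρ g * (ρ c - 1) ^ (p - 1) = (ρ c - 1) ^ (p - 1) * ρ g := by
  refine LinearMap.ext fun v => ?_
  rw [Module.End.mul_apply, Module.End.mul_apply, ← sum_pow_apply, ← sum_pow_apply,
    ← sum_zmod_val (p := p), ← sum_zmod_val (p := p), map_sum]
  refine Fintype.sum_equiv a.mulLeft _ _ fun j => ?_
  rw [← Module.End.mul_apply, ← Module.End.mul_apply, ← map_mul, ← map_mul, Units.mulLeft_apply,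
    ZMod.val_mul, ← pow_eq_pow_mod _ hc, pow_mul, ← h, conj_pow, inv_mul_cancel_right]

end eps

variable [Finite G] {Ω : Type*} [Fintype Ω] [MulAction G Ω] {c : G} {e : ZMod p ≃ Ω}

theorem exists_hom_sumZero (hp2 : 2 < p) (hc : ∀ j, c • e j = e (j + 1)) (hco : orderOf c = p)
    (hsq : ¬ p ^ 2 ∣ Nat.card G) {E : Subgroup G}
    (hNE : ∀ n ∈ Subgroup.normalizer (Subgroup.zpowers c : Set G), ∃ i : ℕ, ∃ g ∈ E, n = c ^ i * g)
    (a : E →* (ZMod p)ˣ) (ha : ∀ (g : E) j, (g : G) • e j = e (a g * j))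
    (hconj : ∀ g : E, g * c * (g : G)⁻¹ = c ^ (a g : ZMod p).val)
    {U : Type*} [AddCommGroup U] [Module k U] (ρ : Representation k G U) {v : U}
    (hv : v ∈ Eig (ρ.comp E.subtype) (slope k a)) (hY : ((ρ c - 1) ^ (p - 1)) v = 0)
    (hvy : v ∉ LinearMap.range (ρ c - 1)) :
    ∃ Φ : (permSumZero k G Ω).toSubmodule →ₗ[k] U, Φ ≠ 0 ∧
      ∀ g x, ρ g (Φ x) = Φ ((permSumZero k G Ω).toRepresentation g x) := by
  classical
  have hcp : c ^ p = 1 := by rw [← hco, pow_orderOf_eq_one]
  set π := permRep k G Ω with hπ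
  set I := (permSumZero k G Ω).toSubmodule with hI
  set τ := (permSumZero k G Ω).toRepresentation with hτ
  have hτv : ∀ g (x : I), (τ g x : Ω → k) = π g x := fun _ _ => rfl
  let F : (Ω → k) →ₗ[k] U :=
    ∑ j : ZMod p, (LinearMap.proj (e j) : (Ω → k) →ₗ[k] k).smulRight (ρ (c ^ j.val) v)
  have hF : ∀ x, F x = ∑ j : ZMod p, x (e j) • ρ (c ^ j.val) v := fun x => by
    simp [F, LinearMap.sum_apply]
  have hFc : ∀ x, F (π c x) = ρ c (F x) := by
    intro x
    rw [hF, hF, map_sum]
    refine (Fintype.sum_equiv (Equiv.addRight (1 : ZMod p)) _ _ fun j => ?_).symm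
    rw [Equiv.coe_addRight, map_smul, hπ, H26.permRep_apply, ← hc, inv_smul_smul,
      ← Module.End.mul_apply, ← map_mul, ← pow_succ', ZMod.val_add, ← pow_eq_pow_mod _ hcp,
      ZMod.val_one]
  have hFg : ∀ (g : E) x, (slope k a g : k) • F (π g x) = ρ g (F x) := by
    intro g x
    rw [hF, hF, map_sum, Finset.smul_sum]
    refine (Fintype.sum_equiv (a g).mulLeft _ _ fun j => ?_).symm
    have h1 : ρ g v = (slope k a g : k) • v := hv g
    rw [Units.mulLeft_apply, map_smul, hπ, H26.permRep_apply, ← ha, inv_smul_smul, ZMod.val_mul,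
      ← pow_eq_pow_mod _ hcp, pow_mul, ← hconj, conj_pow, smul_comm, ← map_smul (ρ _) _ v, ← h1,
      ← Module.End.mul_apply, ← Module.End.mul_apply, ← map_mul, ← map_mul, inv_mul_cancel_right]
  have hconst : ∀ x : Ω → k, (π c - 1) x = 0 → x = x (e 0) • fun _ => (1 : k) := by
    intro x hx
    have h1 : π c x = x := sub_eq_zero.1 hx
    have h2 : ∀ n : ℕ, x (e n) = x (e 0) := by
      intro n
      induction n with
      | zero => simp
      | succ n ih =>
        have := congrFun h1 (e (n + 1))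
        rw [hπ, H26.permRep_apply, ← hc, inv_smul_smul, hc] at this
        rw [Nat.cast_succ, ← this, ih]
    funext ω
    obtain ⟨j, rfl⟩ := e.surjective ω
    have := h2 j.val
    rw [ZMod.natCast_zmod_val] at this
    simp [this]
  obtain ⟨w, hw, hw1, hw2⟩ := exists_eps_eq hp2 π hcp
  have hker : ∀ x, eps p π c x = 0 → (π c - 1) x = 0 := fun x hx => by
    rw [hw2, Module.End.mul_apply] at hx
    exact hw.1 (hx.trans (map_zero w).symm)
  have hεI : ∀ x, eps p π c x ∈ I := by
    intro x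
    rw [hw1, Module.End.mul_apply, hI, H26.mem_permSumZero]
    simp only [LinearMap.sub_apply, Module.End.one_apply, Pi.sub_apply, Finset.sum_sub_distrib,
      hπ, H26.permRep_apply]
    rw [sub_eq_zero]
    exact Fintype.sum_equiv (MulAction.toPerm c⁻¹) _ _ fun _ => rfl
  have hcard : Fintype.card Ω = p := by rw [← Fintype.card_congr e, ZMod.card]
  have hrange : LinearMap.range (eps p π c) = I := by
    refine Submodule.eq_of_le_of_finrank_le (by rintro _ ⟨x, rfl⟩; exact hεI x) ?_
    have h1 := (eps p π c).finrank_range_add_finrank_ker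
    have h2 : Module.finrank k (LinearMap.ker (eps p π c)) ≤ 1 := by
      refine le_trans (Submodule.finrank_mono (t := k ∙ fun _ => (1 : k)) fun x hx => ?_) ?_
      · rw [hconst x (hker x hx)]
        exact Submodule.smul_mem _ _ (Submodule.mem_span_singleton_self _)
      · simpa using finrank_span_le_card ({fun _ => (1 : k)} : Set (Ω → k))
    have h3 : Module.finrank k I < Module.finrank k (Ω → k) := Submodule.finrank_lt fun h => by
      have : (Pi.single (e 0) 1 : Ω → k) ∈ I := h ▸ trivial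
      rw [hI, H26.mem_permSumZero] at this
      simp at this
    omega
  let ε' : (Ω → k) →ₗ[k] I := (eps p π c).codRestrict I hεI
  have hε' : ∀ x : I, ∃ z, ε' z = x := fun x => by
    obtain ⟨z, hz⟩ : (x : Ω → k) ∈ LinearMap.range (eps p π c) := hrange.ge x.2
    exact ⟨z, Subtype.ext hz⟩
  obtain ⟨s, hs⟩ := ε'.exists_rightInverse_of_surjective (LinearMap.range_eq_top.2 hε')
  let f : I →ₗ[k] U := F ∘ₗ s
  have hf : ∀ z, f (ε' z) = F z := by
    intro z
    have h1 : ε' (s (ε' z) - z) = 0 := by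
      rw [map_sub, sub_eq_zero]; exact LinearMap.congr_fun hs _
    have h2 := hconst _ (hker _ (congrArg Subtype.val h1))
    change F (s (ε' z)) = F z
    rw [← sub_eq_zero, ← map_sub, h2, map_smul, hF]
    simp only [one_smul]
    rw [sum_zmod_val (fun i => ρ (c ^ i) v), sum_pow_apply, hY, smul_zero]
  have hfc : ∀ x, f (τ c x) = ρ c (f x) := by
    intro x
    obtain ⟨z, rfl⟩ := hε' x
    have : τ c (ε' z) = ε' (π c z) :=
      Subtype.ext (LinearMap.congr_fun (commute_eps π c).eq z)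
    rw [this, hf, hf, hFc]
  have hfg : ∀ (g : E) x, f (τ g x) = ρ g (f x) := by
    intro g x
    obtain ⟨z, rfl⟩ := hε' x
    have : τ g (ε' z) = (slope k a g : k) • ε' (π g z) := Subtype.ext (by
      rw [slope_val]
      exact LinearMap.congr_fun (rho_mul_eps π hcp (not_dvd_val (a g)) (hconj g)) z)
    rw [this, map_smul, hf, hf, hFg]
  have hfix : ∀ (g : G) (φ : I →ₗ[k] U), τ.linHom ρ g φ = φ ↔ ∀ x, ρ g (φ x) = φ (τ g x) := by
    intro g φ
    rw [Representation.linHom_apply]
    constructor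
    · intro h x
      rw [← LinearMap.congr_fun h (τ g x), LinearMap.comp_apply, LinearMap.comp_apply,
        ← Module.End.mul_apply (τ _), rho_inv_mul, Module.End.one_apply]
    · intro h
      ext x
      rw [LinearMap.comp_apply, LinearMap.comp_apply, h, ← Module.End.mul_apply (τ _),
        rho_mul_inv, Module.End.one_apply]
  have hfN : ∀ n ∈ Subgroup.normalizer (Subgroup.zpowers c : Set G), τ.linHom ρ n f = f := by
    intro n hn
    obtain ⟨i, g, hg, rfl⟩ := hNE n hn
    rw [map_mul, Module.End.mul_apply, (hfix g f).2 fun x => (hfg ⟨g, hg⟩ x).symm]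
    clear hn
    induction i with
    | zero => simp
    | succ i ih => rw [pow_succ', map_mul, Module.End.mul_apply, ih, (hfix c f).2 fun x => (hfc x).symm]
  letI := Fintype.ofFinite (G ⧸ Subgroup.normalizer (Subgroup.zpowers c : Set G))
  obtain ⟨γ, hγ⟩ := exists_sum_out hco hsq (τ.linHom ρ) rfl hfN
  refine ⟨_, fun h0 => hvy ?_, fun g => (hfix g _).1 (apply_sum_out (τ.linHom ρ) hfN g)⟩
  rw [h0] at hγ
  have h1 := LinearMap.congr_fun hγ (ε' (Pi.single (e 0) 1))
  set x := ε' (Pi.single (e 0) 1) with hx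
  have h2 : f x = v := by
    rw [hx, hf, hF, Finset.sum_eq_single 0]
    · simp
    · intro j _ hj
      rw [Pi.single_eq_of_ne (e.injective.ne hj), zero_smul]
    · simp
  have h3 : ∑ i ∈ Finset.range p, τ (c ^ i)⁻¹ x = 0 := by
    apply Subtype.ext
    rw [Submodule.coe_sum]
    funext ω
    obtain ⟨j, rfl⟩ := e.surjective ω
    simp only [Finset.sum_apply, hτv, hπ, H26.permRep_apply, inv_inv, H26.frame_pow hc]
    rw [← sum_zmod_val (p := p) (fun i => (x : Ω → k) (e (j + i)))]
    have h4 : ∑ ω, (x : Ω → k) ω = 0 := x.2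
    refine Eq.trans ?_ h4
    exact Fintype.sum_equiv ((Equiv.addLeft j).trans e) _ _ fun i => by simp
  have h4 : ∀ (i : ℕ) (z : U), ρ (c ^ i) z - z ∈ LinearMap.range (ρ c - 1) := by
    intro i z
    refine ⟨(∑ j ∈ Finset.range i, ρ c ^ j) z, ?_⟩
    rw [← Module.End.mul_apply, mul_geom_sum, map_pow]
    rfl
  rw [LinearMap.zero_apply, LinearMap.add_apply, h2, LinearMap.sum_apply] at h1
  have h5 : v = -∑ i ∈ Finset.range p, (ρ (c ^ i) (γ (τ (c ^ i)⁻¹ x)) - γ (τ (c ^ i)⁻¹ x)) := by
    rw [Finset.sum_sub_distrib, ← map_sum, h3, map_zero, sub_zero]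
    exact eq_neg_of_add_eq_zero_left h1.symm
  rw [h5]
  exact neg_mem (Submodule.sum_mem _ fun i _ => h4 i _)

end H88.Mod
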